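import Cfsg.Agent.CurtisRichen82.Construct
import Cfsg.Agent.Lib.ModRep.Basic
import Cfsg.Agent.Blocks88.Modular

/-!
The number of classes of elements of order prime to `p` is the number of weights.
-/

set_option autoImplicit false
set_option linter.unusedSectionVars false

namespace Cfsg.Agent.CurtisRichen82

open scoped Classical MonoidAlgebra

universe u v

section general

variable {G : Type u} [Group G] {k : Type v} [Field k] [IsAlgClosed k]

theorem isIrreducible_of_irred {M : Type*} [AddCommGroup M] [Module k M]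
    {σ : Representation k G M} (h : Irred σ) : σ.IsIrreducible := by
  obtain ⟨⟨v, hv⟩, hirr⟩ := h
  have : Nontrivial (Subrepresentation σ) :=
    ⟨⊥, ⊤, fun e => hv (by
      have h1 : v ∈ (⊤ : Subrepresentation σ).toSubmodule := trivial
      rw [← e] at h1
      exact (Submodule.mem_bot k).1 h1)⟩
  exact ⟨fun W => (hirr W.toSubmodule fun g w hw => W.apply_mem_toSubmodule g hw).imp
    (fun h => Subrepresentation.toSubmodule_injective h)
    fun h => Subrepresentation.toSubmodule_injective h⟩

/-- Burnside: the group algebra maps onto all linear maps of a simple module. -/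
theorem asAlgebraHom_surjective {M : Type*} [AddCommGroup M] [Module k M] [FiniteDimensional k M]
    {σ : Representation k G M} (h : Irred σ) : Function.Surjective σ.asAlgebraHom := by
  have := isIrreducible_of_irred h
  have : IsSimpleModule k[G] σ.asModule :=
    (Representation.irreducible_iff_isSimpleModule_asModule σ).1 this
  have : FiniteDimensional k σ.asModule := Module.Finite.equiv σ.asModuleEquiv.symm
  intro f
  let f' : σ.asModule →ₗ[k] σ.asModule :=
    σ.asModuleEquiv.symm.toLinearMap ∘ₗ f ∘ₗ σ.asModuleEquiv.toLinearMap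
  let F : Module.End (Module.End k[G] σ.asModule) σ.asModule :=
    { toFun := f'
      map_add' := map_add f'
      map_smul' := fun e w => by
        obtain ⟨c, rfl⟩ :=
          (IsSimpleModule.algebraMap_end_bijective_of_isAlgClosed k (A := k[G]) (V := σ.asModule)).2 e
        simp only [RingHom.id_apply, Module.End.smul_def, Module.algebraMap_end_apply, map_smul] }
  set b := Module.finBasis k σ.asModule
  obtain ⟨r, hr⟩ := jacobson_density F (Finset.univ.image b)
  refine ⟨r, LinearMap.ext fun w => ?_⟩
  have e : ∀ x : σ.asModule, σ.asModuleEquiv (r • x) = σ.asAlgebraHom r (σ.asModuleEquiv x) :=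
    fun x => σ.asModuleEquiv_map_smul r x
  have hall : ∀ x : σ.asModule, f (σ.asModuleEquiv x) = σ.asAlgebraHom r (σ.asModuleEquiv x) := by
    have h2 : f ∘ₗ σ.asModuleEquiv.toLinearMap = σ.asAlgebraHom r ∘ₗ σ.asModuleEquiv.toLinearMap :=
      b.ext fun i => by
        show f (σ.asModuleEquiv (b i)) = σ.asAlgebraHom r (σ.asModuleEquiv (b i))
        rw [← e, ← hr (b i) (Finset.mem_image_of_mem _ (Finset.mem_univ i))]
        simp [F, f']
    exact fun x => LinearMap.congr_fun h2 x
  obtain ⟨x, rfl⟩ := σ.asModuleEquiv.surjective w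
  exact (hall x).symm

/-- Pairwise unrelated simple modules have independent traces. -/
theorem trace_indep {W : Type*} [Fintype W] {d : W → ℕ}
    (σ : ∀ w, Representation k G (Fin (d w) → k)) (hσ : ∀ w, Irred (σ w))
    (hno : ∀ v w, v ≠ w → ¬ ∃ T : (Fin (d v) → k) →ₗ[k] (Fin (d w) → k),
      T ≠ 0 ∧ ∀ g x, T (σ v g x) = σ w g (T x))
    (c : W → k) (hc : ∀ g, ∑ w, c w * LinearMap.trace k _ (σ w g) = 0) : c = 0 := by
  let π := fun w => (σ w).asAlgebraHom
  have hsep : ∀ v w, v ≠ w → ∃ a, π v a = 0 ∧ π w a ≠ 0 := by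
    intro v w hvw
    by_contra hcon
    push Not at hcon
    refine hno v w hvw ?_
    choose s hs using asAlgebraHom_surjective (hσ v)
    have hwd : ∀ a b, π v a = π v b → π w a = π w b := fun a b e => sub_eq_zero.1 (by
      rw [← map_sub]; exact hcon _ (by rw [map_sub, e, sub_self]))
    obtain ⟨y, hy⟩ := (hσ w).1
    set b := Pi.basisFun k (Fin (d v))
    let L := fun (j : Fin (d v)) (m : Fin (d v) → k) => (b.coord j).smulRight m
    have hone : ∑ j, L j (b j) = (1 : Module.End k (Fin (d v) → k)) := LinearMap.ext fun m => by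
      rw [LinearMap.sum_apply, Module.End.one_apply]
      exact b.sum_repr m
    obtain ⟨j, hj⟩ : ∃ j, π w (s (L j (b j))) y ≠ 0 := by
      by_contra h0
      push Not at h0
      refine hy ?_
      have e : π w (∑ j, s (L j (b j))) = π w 1 := hwd _ _ (by
        rw [map_sum, Finset.sum_congr rfl fun j _ => hs (L j (b j)), hone, map_one])
      have := LinearMap.congr_fun e y
      rwa [map_sum, LinearMap.sum_apply, Finset.sum_eq_zero fun j _ => h0 j, map_one,
        Module.End.one_apply, eq_comm] at this
    let T : (Fin (d v) → k) →ₗ[k] (Fin (d w) → k) :=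
      { toFun := fun m => π w (s (L j m)) y
        map_add' := fun m m' => by
          rw [← LinearMap.add_apply, ← map_add]
          refine LinearMap.congr_fun (hwd _ _ ?_) y
          rw [map_add, hs, hs, hs]
          ext x; simp [L, smul_add]
        map_smul' := fun e m => by
          rw [RingHom.id_apply, ← LinearMap.smul_apply, ← map_smul]
          refine LinearMap.congr_fun (hwd _ _ ?_) y
          rw [map_smul, hs, hs]
          ext x; simp [L, mul_left_comm] }
    refine ⟨T, fun h0 => hj (LinearMap.congr_fun h0 (b j)), fun g m => ?_⟩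
    show π w (s (L j (σ v g m))) y = σ w g (π w (s (L j m)) y)
    rw [← Representation.asAlgebraHom_of (σ w) g, ← Module.End.mul_apply, ← map_mul]
    refine LinearMap.congr_fun (hwd _ _ ?_) y
    rw [hs, map_mul, hs, Representation.asAlgebraHom_of]
    ext x; simp [L]
  have hall : ∀ a : k[G], ∑ w, c w * LinearMap.trace k _ (π w a) = 0 := by
    intro a
    induction a using MonoidAlgebra.induction_on with
    | of g => simpa [π] using hc g
    | add x y hx hy => simp [mul_add, Finset.sum_add_distrib, hx, hy]
    | smul e x hx =>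
      simp only [map_smul, smul_eq_mul]
      rw [Finset.sum_congr rfl fun w _ => mul_left_comm (c w) e _, ← Finset.mul_sum, hx, mul_zero]
  funext w
  by_contra hne
  have hstep : ∀ s : Finset W, w ∉ s → ∃ a, π w a ≠ 0 ∧ ∀ v ∈ s, π v a = 0 := by
    intro s
    induction s using Finset.induction with
    | empty =>
      intro _
      obtain ⟨y, hy⟩ := (hσ w).1
      exact ⟨1, fun h => hy (by simpa [π] using LinearMap.congr_fun h y), fun v hv => absurd hv (Finset.notMem_empty v)⟩
    | @insert v s hv ih =>
      intro hw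
      obtain ⟨a, ha, has⟩ := ih fun h => hw (Finset.mem_insert_of_mem h)
      obtain ⟨a', ha'v, ha'⟩ := hsep v w fun h => hw (h ▸ Finset.mem_insert_self v s)
      obtain ⟨x, hx⟩ : ∃ x, π w a x ≠ 0 := by
        by_contra h; push Not at h; exact ha (LinearMap.ext h)
      obtain ⟨z, hz⟩ : ∃ z, π w a' z ≠ 0 := by
        by_contra h; push Not at h; exact ha' (LinearMap.ext h)
      -- join the two elements
      obtain ⟨f, hf⟩ : ∃ f : Module.Dual k (Fin (d w) → k), f (π w a x) = 1 := by
        obtain ⟨f, hf⟩ := Module.Projective.exists_dual_ne_zero k hx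
        exact ⟨(f (π w a x))⁻¹ • f, by simp [hf]⟩
      obtain ⟨m, hm⟩ := asAlgebraHom_surjective (hσ w) (f.smulRight z)
      refine ⟨a' * m * a, fun h => hz ?_, fun u hu => ?_⟩
      · have := LinearMap.congr_fun h x
        rw [map_mul, map_mul, Module.End.mul_apply, Module.End.mul_apply,
          show π w m = f.smulRight z from hm, LinearMap.smulRight_apply, hf, one_smul] at this
        exact this
      · rw [map_mul, map_mul]
        rcases Finset.mem_insert.1 hu with rfl | hu
        · rw [ha'v, zero_mul, zero_mul]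
        · rw [has u hu, mul_zero]
  obtain ⟨a, ha, has⟩ := hstep (Finset.univ.erase w) (Finset.notMem_erase _ _)
  obtain ⟨x, hx⟩ : ∃ x, π w a x ≠ 0 := by
    by_contra h; push Not at h; exact ha (LinearMap.ext h)
  obtain ⟨f, hf⟩ := Module.Projective.exists_dual_ne_zero k hx
  obtain ⟨m, hm⟩ := asAlgebraHom_surjective (hσ w) (f.smulRight x)
  have := hall (m * a)
  rw [Finset.sum_eq_single w] at this
  · rw [map_mul, show π w m = f.smulRight x from hm, Module.End.mul_eq_comp,
      show f.smulRight x ∘ₗ π w a = (f ∘ₗ π w a).smulRight x from rfl,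
      LinearMap.trace_smulRight] at this
    exact hf ((mul_eq_zero.1 this).resolve_left hne)
  · intro v _ hv
    rw [map_mul, has v (Finset.mem_erase.2 ⟨hv, Finset.mem_univ v⟩), mul_zero, map_zero, mul_zero]
  · exact fun h => absurd (Finset.mem_univ w) h

end general

section count

open ModRep BlocksCore BlocksDefect

variable {G : Type u} [Group G] [Fintype G] {ι : Type*} {p : ℕ} [Fact p.Prime]
  (S : Setting G ι p) {Bv : ValuationSubring ℂ} [CharP (Kf Bv) p]

/-- The possible weights. -/
abbrev Wt (S : Setting G ι p) (k : Type v) [Field k] : Type _ :=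
  {w : (S.H →* kˣ) × (ι → k) // ∀ i, w.2 i = 0 ∨ w.2 i = S.mu i w.1}

theorem mem_span_bchar {d : Wt S (Kf Bv) → ℕ}
    (σ : ∀ w, Representation (Kf Bv) G (Fin (d w) → Kf Bv)) (hσ : ∀ w, Irred (σ w))
    (hw : ∀ w, ∃ y, IsWeightVec S (σ w) w.1.1 w.1.2 y) :
    ∀ (V : Type) [AddCommGroup V] [Module (Kf Bv) V] [FiniteDimensional (Kf Bv) V]
      (ρ : Representation (Kf Bv) G V),
      bchar p ρ ∈ Submodule.span ℂ (Set.range fun w => bchar p (σ w)) := by
  suffices H : ∀ (N : ℕ) (V : Type) [AddCommGroup V] [Module (Kf Bv) V]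
      [FiniteDimensional (Kf Bv) V] (ρ : Representation (Kf Bv) G V),
      Module.finrank (Kf Bv) V ≤ N →
        bchar p ρ ∈ Submodule.span ℂ (Set.range fun w => bchar p (σ w)) from
    fun V _ _ _ ρ => H _ V ρ le_rfl
  intro N
  induction N with
  | zero =>
    intro V _ _ _ ρ hV
    have : Subsingleton V := Module.finrank_zero_iff.mp (Nat.le_zero.mp hV)
    rw [bchar_subsingleton]
    exact zero_mem _
  | succ N ih =>
    intro V _ _ _ ρ hV
    by_cases hsplit : ∃ W : Submodule (Kf Bv) V, (∀ g, W ≤ W.comap (ρ g)) ∧ W ≠ ⊥ ∧ W ≠ ⊤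
    · obtain ⟨W, hW, h0, h1⟩ := hsplit
      have hWl := Submodule.finrank_lt h1
      have hWp : 0 < Module.finrank (Kf Bv) W :=
        Nat.pos_of_ne_zero fun h => h0 (Submodule.finrank_eq_zero.mp h)
      have hq := W.finrank_quotient_add_finrank
      rw [bchar_eq_add ρ W hW]
      exact add_mem (ih W (subRep ρ W hW) (by omega)) (ih (V ⧸ W) (quotRep ρ W hW) (by omega))
    push Not at hsplit
    cases subsingleton_or_nontrivial V with
    | inl h => rw [bchar_subsingleton]; exact zero_mem _
    | inr hnt =>
    have hirr : Irred ρ := ⟨exists_ne 0, fun W hW => or_iff_not_imp_left.2 (hsplit W hW)⟩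
    obtain ⟨χ, lam, hlam, x, hx⟩ := exists_weight S hirr
    obtain ⟨y, hy⟩ := hw ⟨(χ, lam), hlam⟩
    obtain ⟨e, he⟩ := iso_of_weight hirr (hσ _) hx hy (exists_fixed_dual S hirr)
      (exists_fixed_dual S (hσ _))
    rw [bchar_equiv e he]
    exact Submodule.subset_span ⟨_, rfl⟩

/-- Two weights with related simple modules are equal. -/
theorem weight_eq {M M' : Type*} [AddCommGroup M] [Module (Kf Bv) M] [AddCommGroup M']
    [Module (Kf Bv) M'] [FiniteDimensional (Kf Bv) M'] {ρ : Representation (Kf Bv) G M}
    {ρ' : Representation (Kf Bv) G M'} (hρ : Irred ρ) (hρ' : Irred ρ')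
    {χ χ' : S.H →* (Kf Bv)ˣ} {lam lam' : ι → Kf Bv} {x : M} {x' : M'}
    (hx : IsWeightVec S ρ χ lam x) (hx' : IsWeightVec S ρ' χ' lam' x') (T : M →ₗ[Kf Bv] M')
    (hT : T ≠ 0) (he : ∀ g y, T (ρ g y) = ρ' g (T y)) : χ = χ' ∧ lam = lam' := by
  have hne : T x ≠ 0 := by
    intro h0
    refine hT (LinearMap.ker_eq_top.1 ((hρ.2 _ fun g y hy => ?_).resolve_left fun h =>
      hx.ne ((Submodule.mem_bot _).1 (h ▸ LinearMap.mem_ker.2 h0))))
    rw [LinearMap.mem_ker] at hy ⊢
    rw [he, hy, map_zero]
  have hu : ∀ u ∈ S.U, ρ' u (T x) = T x := fun u hu => by rw [← he, hx.fix u hu]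
  obtain ⟨ψ, mu', -, φ, hφ⟩ := exists_weight S (irred_dual hρ')
  obtain ⟨c, hc⟩ := fixed_unique hρ' hφ hne hu hx'.fix
  have hc0 : c ≠ 0 := fun h => hx'.ne (by rw [hc, h, zero_smul])
  refine ⟨MonoidHom.ext fun h => Units.ext ?_, funext fun i => ?_⟩
  · refine smul_left_injective (Kf Bv) (smul_ne_zero hc0 hne) ?_
    show ((χ h : (Kf Bv)ˣ) : Kf Bv) • (c • T x) = ((χ' h : (Kf Bv)ˣ) : Kf Bv) • (c • T x)
    rw [smul_comm, ← map_smul, ← hx.torus, he, ← map_smul, ← hc, hx'.torus]
  · refine smul_left_injective (Kf Bv) (smul_ne_zero hc0 hne) ?_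
    show lam i • (c • T x) = lam' i • (c • T x)
    rw [smul_comm, ← map_smul, ← hx.refl, ← hc, ← hx'.refl, hc, Setting.op_apply, Setting.op_apply,
      map_sum, Finset.smul_sum]
    exact Finset.sum_congr rfl fun a _ => by rw [he, map_smul]

end count

section main

open ModRep BlocksCore BlocksDefect

variable {G : Type u} [Group G] [Fintype G] {ι : Type*} {p : ℕ} [Fact p.Prime]

/-- Curtis and Richen: classes of elements of order prime to `p` and weights. -/
theorem card_regular_classes (S : Setting G ι p)
    (hex : ∀ (k : Type) [Field k] [IsAlgClosed k] [CharP k p],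
      ∀ w : Wt S k, ∃ (d : ℕ) (σ : Representation k G (Fin d → k)), Irred σ ∧
        ∃ y, IsWeightVec S σ w.1.1 w.1.2 y) :
    ∃ (k : Type) (_ : Field k) (_ : IsAlgClosed k) (_ : CharP k p), Finite (Wt S k) →
      Nat.card {C : ConjClasses G // ¬ p ∣ orderOf (Quotient.out C)} = Nat.card (Wt S k) := by
  obtain ⟨M, hM⟩ := Blocks88.exists_isPModular (Fact.out : p.Prime)
  have := hM.2.1
  obtain ⟨D⟩ := exists_brauerData (G := G) hM
  have hBv := D.isPlace
  have := hBv.charP hM
  refine ⟨Kf D.place, inferInstance, inferInstance, inferInstance, fun hfin => ?_⟩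
  have := Fintype.ofFinite (Wt S (Kf D.place))
  rw [← D.l_eq hM, Nat.card_eq_fintype_card]
  choose d σ hσ hw using hex (Kf D.place)
  refine le_antisymm ?_ ?_
  · have hle : Submodule.span ℂ (Set.range D.φ) ≤
        Submodule.span ℂ (Set.range fun w => bchar p (σ w)) := by
      refine Submodule.span_le.2 ?_
      rintro _ ⟨i, rfl⟩
      rw [D.φ_eq i]
      exact mem_span_bchar S σ hσ hw _ _
    have h1 := Submodule.finrank_mono hle
    rw [finrank_span_eq_card D.linearIndependent, Fintype.card_fin] at h1
    exact h1.trans (finrank_range_le_card _)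
  · have hloc : ∀ w x, MemLocalRing M (bchar p (σ w) x) := fun w x =>
      memLocalRing_of_isIntegral (isIntegral_bchar hM.1 _ x)
    have hred : ∀ w x, ¬ p ∣ orderOf x →
        hBv.iota (red M (bchar p (σ w) x)) = LinearMap.trace (Kf D.place) _ (σ w x) := by
      intro w x hx
      obtain ⟨z, hz, hr⟩ := residue_bchar hM.1 (σ w) hx
      rw [hBv.iota_red (hloc w x), show (⟨bchar p (σ w) x, _⟩ : D.place) = z from Subtype.ext hz.symm,
        hr]
    have hli : LinearIndependent (Res M) fun w x => red M (bchar p (σ w) x) := by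
      rw [Fintype.linearIndependent_iff]
      intro c hc i
      have h0 : (fun w => hBv.iota (c w)) = 0 := by
        refine trace_indep σ hσ (fun v w hvw hT => hvw ?_) _ fun g => ?_
        · obtain ⟨T, hT0, hTe⟩ := hT
          obtain ⟨x, hx⟩ := hw v
          obtain ⟨x', hx'⟩ := hw w
          obtain ⟨e1, e2⟩ := weight_eq S (hσ v) (hσ w) hx hx' T hT0 hTe
          exact Subtype.ext (Prod.ext e1 e2)
        · obtain ⟨x, y, rfl, hxy, ⟨j, hx⟩, hy⟩ := exists_pPart (p := p) hM.1 g
          have ht : ∀ w, LinearMap.trace (Kf D.place) _ (σ w (x * y)) =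
              hBv.iota (red M (bchar p (σ w) y)) := fun w => by
            rw [hred w y hy]
            exact CyclicRank.trace_eq_regular (p := p) (σ w) hxy hx
          simp only [ht, ← map_mul, ← map_sum]
          rw [show ∑ w, c w * red M (bchar p (σ w) y) = 0 by simpa using congrFun hc y, map_zero]
      exact hBv.iota.injective (by rw [map_zero]; exact congrFun h0 i)
    have hli' := BlockAlg8.linearIndependent_of_red _ hloc hli
    have hle : Submodule.span ℂ (Set.range fun w => bchar p (σ w)) ≤
        Submodule.span ℂ (Set.range D.φ) := by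
      refine Submodule.span_le.2 ?_
      rintro _ ⟨w, rfl⟩
      obtain ⟨m, hm⟩ := D.combination _ (σ w)
      show bchar p (σ w) ∈ Submodule.span ℂ (Set.range D.φ)
      rw [hm]
      exact sum_mem fun i _ => Submodule.smul_mem _ _ (Submodule.subset_span ⟨i, rfl⟩)
    have h1 := Submodule.finrank_mono hle
    rw [finrank_span_eq_card hli'] at h1
    exact h1.trans ((finrank_range_le_card _).trans (Fintype.card_fin _).le)

end main

end Cfsg.Agent.CurtisRichen82
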