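import Cfsg.Agent.CurtisRichen82.Weight

/-!
Simple modules of a given weight, from a coordinate function on the monomial group.
-/

set_option autoImplicit false
set_option linter.unusedSectionVars false

namespace Cfsg.Agent.CurtisRichen82

open scoped Classical

universe u v

variable {G : Type u} [Group G] [Fintype G] {ι : Type*} {p : ℕ} [Fact p.Prime]
  {S : Setting G ι p} {k : Type v} [Field k] [CharP k p]

/-- A cyclic weight vector gives a simple quotient with the same weight. -/
theorem exists_simple_quotient {M : Type*} [AddCommGroup M] [Module k M] [FiniteDimensional k M]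
    {ρ : Representation k G M} {χ : S.H →* kˣ} {lam : ι → k} {x : M}
    (hx : IsWeightVec S ρ χ lam x) :
    ∃ (d : ℕ) (σ : Representation k G (Fin d → k)), Irred σ ∧
      ∃ y, IsWeightVec S σ χ lam y := by
  set W := spanV S ρ x with hW
  have hWinv : ∀ g, W ≤ W.comap (ρ g) := fun g y hy => invariant_spanV hx g hy
  set τ := ρ.subrepresentation W hWinv
  set x0 : W := ⟨x, self_mem_spanV⟩
  have hex : ∃ d, ∃ E : Submodule k W, (∀ g, E ≤ E.comap (τ g)) ∧ x0 ∉ E ∧
      Module.finrank k W - Module.finrank k E = d :=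
    ⟨_, ⊥, fun g y hy => by rw [Submodule.mem_bot] at hy; simp [hy],
      fun h => hx.ne (congrArg Subtype.val ((Submodule.mem_bot k).1 h)), rfl⟩
  obtain ⟨E, hE, hxE, hdE⟩ := Nat.find_spec hex
  set π := τ.quotient E hE
  have hπ : ∀ g (y : W), π g (E.mkQ y) = E.mkQ (τ g y) := fun g y => rfl
  have hgen : ∀ E' : Submodule k W, (∀ g, E' ≤ E'.comap (τ g)) → x0 ∈ E' → E' = ⊤ := by
    intro E' hE' hxE'
    rw [eq_top_iff]
    rintro ⟨y, hy⟩ -
    suffices ∀ y ∈ W, ∃ hy : y ∈ W, (⟨y, hy⟩ : W) ∈ E' from (this y hy).2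
    intro y hy
    refine ⟨hy, ?_⟩
    induction hy using Submodule.span_induction with
    | zero => exact E'.zero_mem
    | add a b ha hb ha' hb' => exact E'.add_mem ha' hb'
    | smul c a ha ha' => exact E'.smul_mem c ha'
    | mem y hy =>
      obtain ⟨v, rfl⟩ := hy
      exact hE' (v : G) hxE'
  have hirr : Irred π := by
    refine ⟨⟨E.mkQ x0, fun h => hxE ((Submodule.Quotient.mk_eq_zero E).1 h)⟩, fun F hF => ?_⟩
    set E' := F.comap E.mkQ
    have hle : E ≤ E' := fun y hy => by
      show E.mkQ y ∈ F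
      rw [Submodule.mkQ_apply, (Submodule.Quotient.mk_eq_zero E).2 hy]
      exact F.zero_mem
    have hE' : ∀ g, E' ≤ E'.comap (τ g) := fun g y hy => by
      show E.mkQ (τ g y) ∈ F
      rw [← hπ]
      exact hF g _ hy
    have hmap : F = E'.map E.mkQ :=
      (Submodule.map_comap_eq_of_surjective E.mkQ_surjective F).symm
    by_cases hx' : x0 ∈ E'
    · right
      rw [hmap, hgen E' hE' hx', Submodule.map_top, Submodule.range_mkQ]
    · left
      have heq : E = E' := by
        by_contra hne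
        have h1 := Submodule.finrank_lt_finrank_of_lt (lt_of_le_of_ne hle hne)
        have h2 := Submodule.finrank_le E'
        have h3 := Nat.find_min' hex ⟨E', hE', hx', rfl⟩
        omega
      rw [hmap, ← heq, eq_bot_iff]
      rintro _ ⟨y, hy, rfl⟩
      exact (Submodule.mem_bot k).2 ((Submodule.Quotient.mk_eq_zero E).2 hy)
  set e := (Module.finBasis k (W ⧸ E)).equivFun
  refine ⟨_, (e.conjRingEquiv : Module.End k (W ⧸ E) ≃+* _).toMonoidHom.comp π, ?_, e (E.mkQ x0), ?_⟩
  · have hap : ∀ g y, ((e.conjRingEquiv : Module.End k (W ⧸ E) ≃+* _).toMonoidHom.comp π) g (e y) =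
        e (π g y) := fun g y => by
      show e (π g (e.symm (e y))) = _
      rw [e.symm_apply_apply]
    refine ⟨⟨e (E.mkQ x0), fun h => hxE ((Submodule.Quotient.mk_eq_zero E).1
      (e.map_eq_zero_iff.1 h))⟩, fun F hF => ?_⟩
    have hc := Submodule.map_comap_eq_of_surjective (f := (e : W ⧸ E →ₗ[k] _)) e.surjective F
    rcases hirr.2 (F.comap (e : W ⧸ E →ₗ[k] _)) (fun g y hy => by
        show e (π g y) ∈ F
        rw [← hap]; exact hF g _ hy) with h | h
    · left; rw [← hc, h, Submodule.map_bot]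
    · right; rw [← hc, h, Submodule.map_top, LinearMap.range_eq_top]; exact e.surjective
  have hap : ∀ g y, ((e.conjRingEquiv : Module.End k (W ⧸ E) ≃+* _).toMonoidHom.comp π) g (e y) =
      e (π g y) := fun g y => by
    show e (π g (e.symm (e y))) = _
    rw [e.symm_apply_apply]
  have hτ : ∀ g, ((τ g x0 : W) : M) = ρ g x := fun g => rfl
  refine ⟨fun h => hxE ((Submodule.Quotient.mk_eq_zero E).1 (e.map_eq_zero_iff.1 h)),
    fun u hu => ?_, fun h => ?_, fun i => ?_⟩
  · rw [hap, hπ, show τ u x0 = x0 from Subtype.ext (hx.fix u hu)]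
  · rw [hap, hπ, show τ (h : G) x0 = ((χ h : kˣ) : k) • x0 from Subtype.ext (hx.torus h),
      map_smul, map_smul]
  · rw [Setting.op_apply]
    simp only [hap, hπ]
    rw [← map_sum, ← map_sum, show ∑ a : S.X i, τ ((a : G) * S.n i) x0 = lam i • x0 from
      Subtype.ext (by rw [AddSubmonoidClass.coe_finset_sum, Submodule.coe_smul, ← hx.refl,
        Setting.op_apply]; exact Finset.sum_congr rfl fun a _ => hτ _), map_smul, map_smul]

/-- Left translation of functions. -/
noncomputable def funRep (G : Type u) [Group G] (k : Type v) [Field k] :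
    Representation k G (G → k) where
  toFun g := LinearMap.funLeft k k (fun x => g⁻¹ * x)
  map_one' := by ext f x; simp [LinearMap.funLeft]
  map_mul' a b := by ext f x; simp [LinearMap.funLeft, mul_assoc]

theorem funRep_apply (g : G) (f : G → k) (x : G) : funRep G k g f x = f (g⁻¹ * x) := rfl

/-- A simple module of prescribed weight. -/
theorem exists_simple_of_coord (χ : S.H →* kˣ) (lam : ι → k) (c : G → k)
    (hc : ∀ h : S.H, ∀ m ∈ S.N, c ((h : G) * m) = ((χ h⁻¹ : kˣ) : k) * c m)
    (hne : ∃ m ∈ S.N, c m ≠ 0)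
    (hA : ∀ i, ∀ m ∈ S.N, S.Up i m → lam i * c m = 0)
    (hB : ∀ i, ∀ m ∈ S.N, ¬ S.Up i m → c ((S.n i)⁻¹ * m) + S.mu i χ * c m = lam i * c m) :
    ∃ (d : ℕ) (σ : Representation k G (Fin d → k)), Irred σ ∧
      ∃ y, IsWeightVec S σ χ lam y := by
  choose u hu m hm u' hu' hdec using S.cover
  let f : G → k := fun x => c (m x)
  have hval : ∀ {a : G}, a ∈ S.U → ∀ {n : G}, n ∈ S.N → ∀ {b : G}, b ∈ S.U →
      f (a * n * b) = c n := by
    intro a ha n hn b hb
    show c (m _) = c n
    congr 1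
    have e := hdec (a * n * b)
    set x := a * n * b with hx
    have e1 : ((u x)⁻¹ * a) * n * (b * (u' x)⁻¹) = m x := by
      rw [show (u x)⁻¹ * a * n * (b * (u' x)⁻¹) = (u x)⁻¹ * (a * n * b) * (u' x)⁻¹ by group,
        ← hx]
      conv_lhs => arg 1; arg 2; rw [e]
      group
    have := S.unique _ (mul_mem (inv_mem (hu x)) ha) _ hn _ (mul_mem hb (inv_mem (hu' x)))
      (by rw [e1]; exact hm x)
    rw [e1] at this
    exact this
  have hleft : ∀ a ∈ S.U, ∀ x, f (a * x) = f x := by
    intro a ha x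
    conv_lhs => rw [hdec x]
    conv_rhs => rw [hdec x]
    rw [show a * (u x * m x * u' x) = (a * u x) * m x * u' x by group,
      hval (mul_mem ha (hu x)) (hm x) (hu' x), hval (hu x) (hm x) (hu' x)]
  have hright : ∀ b ∈ S.U, ∀ x, f (x * b) = f x := by
    intro b hb x
    conv_lhs => rw [hdec x]
    conv_rhs => rw [hdec x]
    rw [show u x * m x * u' x * b = u x * m x * (u' x * b) by group,
      hval (hu x) (hm x) (mul_mem (hu' x) hb), hval (hu x) (hm x) (hu' x)]
  have hN : ∀ n ∈ S.N, f n = c n := fun n hn => by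
    simpa using hval S.U.one_mem hn S.U.one_mem
  refine exists_simple_quotient (ρ := funRep G k) (x := f) ⟨fun h => ?_, fun a ha => ?_,
    fun h => ?_, fun i => ?_⟩
  · obtain ⟨n, hn, hcn⟩ := hne
    exact hcn ((hN n hn).symm.trans (congrFun h n))
  · funext x
    rw [funRep_apply, hleft _ (inv_mem ha)]
  · funext x
    rw [funRep_apply, Pi.smul_apply, smul_eq_mul]
    conv_lhs => rw [hdec x]
    conv_rhs => rw [hdec x]
    rw [show (h : G)⁻¹ * (u x * m x * u' x) =
        ((h : G)⁻¹ * u x * h) * ((h : G)⁻¹ * m x) * u' x by group,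
      hval (by simpa using S.H_conj_U _ (inv_mem h.2) _ (hu x))
        (mul_mem (S.H_le_N (inv_mem h.2)) (hm x)) (hu' x),
      hval (hu x) (hm x) (hu' x)]
    have := hc h⁻¹ (m x) (hm x)
    rw [inv_inv] at this
    exact this
  · funext x
    rw [Pi.smul_apply, smul_eq_mul]
    -- both sides are left and right invariant
    have hT : ∀ y, S.op (funRep G k) i f y = ∑ a : S.X i, f ((S.n i)⁻¹ * ((a : G) * y)) := by
      intro y
      rw [Setting.op_apply, Finset.sum_apply,
        ← Equiv.sum_comp (Equiv.inv (S.X i)) (fun a : S.X i => f ((S.n i)⁻¹ * ((a : G) * y)))]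
      refine Finset.sum_congr rfl fun a _ => ?_
      rw [funRep_apply, mul_inv_rev, mul_assoc]
      rfl
    have hTl : ∀ a ∈ S.U, ∀ y, S.op (funRep G k) i f (a * y) = S.op (funRep G k) i f y := by
      intro a ha y
      rw [hT, hT]
      have hs : ∀ r : S.X i, ∃ b : S.X i, ∃ w ∈ S.U' i, (r : G) * a = w⁻¹ * (b : G) := fun r => by
        obtain ⟨b, hb, w, hw, e⟩ := S.factU i _ (inv_mem (mul_mem (S.X_le i r.2) ha))
        refine ⟨⟨b⁻¹, inv_mem hb⟩, w, hw, ?_⟩
        rw [← inv_inv ((r : G) * a), e, mul_inv_rev]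
      choose π w hw hπ using hs
      have hbij : Function.Bijective π := by
        refine Finite.injective_iff_bijective.1 fun r s e => ?_
        have e1 : (r : G) * (s : G)⁻¹ = (w r)⁻¹ * w s := by
          calc (r : G) * (s : G)⁻¹ = ((r : G) * a) * ((s : G) * a)⁻¹ := by group
            _ = _ := by rw [hπ r, hπ s, e]; group
        have := S.disjU i ((r : G) * (s : G)⁻¹) (mul_mem r.2 (inv_mem s.2))
          (e1 ▸ mul_mem (inv_mem (hw r)) (hw s))
        exact Subtype.ext (mul_inv_eq_one.1 this)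
      rw [← hbij.sum_comp fun r : S.X i => f ((S.n i)⁻¹ * ((r : G) * y))]
      refine Finset.sum_congr rfl fun r _ => ?_
      rw [show (S.n i)⁻¹ * ((r : G) * (a * y)) =
          ((S.n i)⁻¹ * (w r)⁻¹ * S.n i) * ((S.n i)⁻¹ * ((π r : G) * y)) by
        rw [← mul_assoc (r : G), hπ r]; group]
      exact hleft _ (S.conj_U' i _ (inv_mem (hw r))) _
    have hTr : ∀ b ∈ S.U, ∀ y, S.op (funRep G k) i f (y * b) = S.op (funRep G k) i f y := by
      intro b hb y
      rw [hT, hT]
      exact Finset.sum_congr rfl fun r _ => by rw [← mul_assoc, ← mul_assoc, hright b hb, mul_assoc]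
    conv_lhs => rw [hdec x, hTr _ (hu' x), hTl _ (hu x)]
    conv_rhs => rw [hdec x, hval (hu x) (hm x) (hu' x)]
    set n := m x
    have hn : n ∈ S.N := hm x
    have hnn : (S.n i)⁻¹ * n ∈ S.N := mul_mem (inv_mem (S.n_mem i)) hn
    rw [hT]
    by_cases hup : S.Up i n
    · rw [hA i n hn hup, Finset.sum_congr rfl (g := fun _ => f ((S.n i)⁻¹ * n)) fun a _ => by
        rw [show (S.n i)⁻¹ * ((a : G) * n) = (S.n i)⁻¹ * n * (n⁻¹ * a * n) by group,
          hright _ (hup a a.2)]]
      obtain ⟨j, hj⟩ := S.dvd_card i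
      rw [Finset.sum_const, Finset.card_univ, ← Nat.card_eq_fintype_card, hj, mul_smul,
        ← Nat.cast_smul_eq_nsmul k, CharP.cast_eq_zero, zero_smul]
    · rw [← hB i n hn hup, ← Finset.add_sum_erase _ _ (Finset.mem_univ (1 : S.X i)),
        OneMemClass.coe_one, one_mul, hN _ hnn, Setting.mu, Finset.sum_mul]
      congr 1
      rw [Finset.sum_subtype (p := fun a : S.X i => (a : G) ≠ 1) _ (fun a => by
        rw [Finset.mem_erase, and_iff_left (Finset.mem_univ _), ne_eq, ne_eq, OneMemClass.coe_eq_one])]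
      refine Finset.sum_congr rfl fun ⟨a, ha⟩ _ => ?_
      obtain ⟨b, hb, h₀, hh₀, d, hd, e1, e2⟩ := S.hh_spec a ha
      rw [show (S.n i)⁻¹ * ((a : G) * n) =
          ((S.n i)⁻¹ * a * S.n i) * ((S.n i)⁻¹ * n) by group, e1,
        show b * S.n i * h₀ * d * ((S.n i)⁻¹ * n) = b * (S.n i * h₀ * (S.n i)⁻¹ * n) *
          (n⁻¹ * (S.n i * d * (S.n i)⁻¹) * n) by group,
        hval (S.X_le i hb) (mul_mem (S.H_le_N (e2 ▸ (S.hh i a).2)) hn)
          (S.dich i n hn hup _ (S.conj_X i d hd)), e2, hc _ n hn]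

end Cfsg.Agent.CurtisRichen82
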