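import Mathlib

/-!
Split BN-data for the simple modules in the defining characteristic (Curtis, Richen).
-/

set_option autoImplicit false

namespace Cfsg.Agent.CurtisRichen82

open scoped Classical

universe u

/-- The data used in the argument of Curtis and Richen. -/
structure Setting (G : Type u) [Group G] (ι : Type*) (p : ℕ) where
  /-- the positive unipotent group -/
  U : Subgroup G
  /-- the negative unipotent group -/
  V : Subgroup G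
  /-- the torus -/
  H : Subgroup G
  /-- the monomial group -/
  N : Subgroup G
  /-- the generating reflections -/
  n : ι → G
  /-- the simple root groups -/
  X : ι → Subgroup G
  /-- the negative simple root groups -/
  Y : ι → Subgroup G
  /-- the complements of the simple root groups -/
  U' : ι → Subgroup G
  gen : Subgroup.closure ((V : Set G) ∪ H ∪ Set.range n) = ⊤
  H_le_N : H ≤ N
  n_mem : ∀ i, n i ∈ N
  H_comm : ∀ a ∈ H, ∀ b ∈ H, a * b = b * a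
  conj_H : ∀ m ∈ N, ∀ h ∈ H, m * h * m⁻¹ ∈ H
  H_conj_U : ∀ h ∈ H, ∀ u ∈ U, h * u * h⁻¹ ∈ U
  H_conj_V : ∀ h ∈ H, ∀ v ∈ V, h * v * h⁻¹ ∈ V
  X_le : ∀ i, X i ≤ U
  Y_le : ∀ i, Y i ≤ V
  conj_X : ∀ i, ∀ a ∈ X i, n i * a * (n i)⁻¹ ∈ Y i
  conj_X' : ∀ i, ∀ a ∈ X i, (n i)⁻¹ * a * n i ∈ Y i
  sq_mem : ∀ i, n i * n i ∈ H
  factU : ∀ i, ∀ u ∈ U, ∃ a ∈ X i, ∃ v ∈ U' i, u = a * v
  disjU : ∀ i, ∀ a ∈ X i, a ∈ U' i → a = 1
  conj_U' : ∀ i, ∀ v ∈ U' i, (n i)⁻¹ * v * n i ∈ U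
  factV : ∀ i, ∀ v ∈ V, ∃ w : G, n i * w * (n i)⁻¹ ∈ V ∧ ∃ y ∈ Y i, v = w * y
  big : ∀ i, ∀ y ∈ Y i, y ≠ 1 → ∃ a ∈ X i, ∃ h ∈ H, ∃ b ∈ X i, y = a * n i * h * b
  /-- an element carrying `U` to `V` -/
  z : G
  z_mem : z ∈ N
  zU : ∀ u ∈ U, z * u * z⁻¹ ∈ V
  zV : ∀ v ∈ V, z⁻¹ * v * z ∈ U
  cover : ∀ g : G, ∃ u ∈ U, ∃ m ∈ N, ∃ u' ∈ U, g = u * m * u'
  unique : ∀ u ∈ U, ∀ m ∈ N, ∀ u' ∈ U, u * m * u' ∈ N → u * m * u' = m
  /-- the length -/
  rank : G → ℕ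
  rank_lt : ∀ i, ∀ m ∈ N, ¬ (∀ a ∈ X i, m⁻¹ * a * m ∈ U) → rank ((n i)⁻¹ * m) < rank m
  dich : ∀ i, ∀ m ∈ N, ¬ (∀ a ∈ X i, m⁻¹ * a * m ∈ U) → ∀ y ∈ Y i, m⁻¹ * y * m ∈ U
  dvd_card : ∀ i, p ∣ Nat.card (X i)
  pgroup : IsPGroup p U

variable {G : Type u} [Group G] {ι : Type*} {p : ℕ} (S : Setting G ι p)

namespace Setting

/-- The root group `X i` is carried into `U` by `m`. -/
def Up (i : ι) (m : G) : Prop := ∀ a ∈ S.X i, m⁻¹ * a * m ∈ S.U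

theorem exists_hh (i : ι) (a : S.X i) : ∃ h : S.H, (a : G) ≠ 1 →
    ∃ b ∈ S.X i, ∃ h₀ ∈ S.H, ∃ c ∈ S.X i,
      (S.n i)⁻¹ * a * S.n i = b * S.n i * h₀ * c ∧ S.n i * h₀ * (S.n i)⁻¹ = h := by
  by_cases ha : (a : G) = 1
  · exact ⟨1, fun h => absurd ha h⟩
  · obtain ⟨b, hb, h₀, hh₀, c, hc, e⟩ := S.big i _ (S.conj_X' i a a.2) (fun h => ha (by
      have := congrArg (fun x => S.n i * x * (S.n i)⁻¹) h
      simpa [mul_assoc] using this))
    exact ⟨⟨_, S.conj_H _ (S.n_mem i) h₀ hh₀⟩, fun _ => ⟨b, hb, h₀, hh₀, c, hc, e, rfl⟩⟩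

/-- The torus element of a nontrivial element of a simple root group. -/
noncomputable def hh (i : ι) (a : S.X i) : S.H := (S.exists_hh i a).choose

theorem hh_spec {i : ι} (a : S.X i) (ha : (a : G) ≠ 1) : ∃ b ∈ S.X i, ∃ h₀ ∈ S.H, ∃ c ∈ S.X i,
    (S.n i)⁻¹ * a * S.n i = b * S.n i * h₀ * c ∧ S.n i * h₀ * (S.n i)⁻¹ = S.hh i a :=
  (S.exists_hh i a).choose_spec ha

/-- The torus element does not depend on the factorisation. -/
theorem hh_eq {i : ι} (a : S.X i) (ha : (a : G) ≠ 1) {b c h₀ : G} (hb : b ∈ S.X i) (hc : c ∈ S.X i)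
    (hh₀ : h₀ ∈ S.H) (e : (S.n i)⁻¹ * a * S.n i = b * S.n i * h₀ * c) :
    (S.hh i a : G) = S.n i * h₀ * (S.n i)⁻¹ := by
  obtain ⟨b', hb', h', hh', c', hc', e', eh⟩ := S.hh_spec a ha
  rw [← eh]
  congr 1
  have hm : S.n i * h₀ ∈ S.N := mul_mem (S.n_mem i) (S.H_le_N hh₀)
  have key : (b'⁻¹ * b) * (S.n i * h₀) * (c * c'⁻¹) = S.n i * h' := by
    have := e.symm.trans e'
    calc (b'⁻¹ * b) * (S.n i * h₀) * (c * c'⁻¹)
        = b'⁻¹ * (b * S.n i * h₀ * c) * c'⁻¹ := by group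
      _ = b'⁻¹ * (b' * S.n i * h' * c') * c'⁻¹ := by rw [this]
      _ = S.n i * h' := by group
  have := S.unique _ (S.X_le i (mul_mem (inv_mem hb') hb)) _ hm _
    (S.X_le i (mul_mem hc (inv_mem hc'))) (by rw [key]; exact mul_mem (S.n_mem i) (S.H_le_N hh'))
  rw [key] at this
  exact this

variable {k : Type*} [Field k]

/-- The scalar attached to a weight and a reflection. -/
noncomputable def mu [Fintype G] (i : ι) (χ : S.H →* kˣ) : k :=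
  ∑ a : {a : S.X i // (a : G) ≠ 1}, ((χ (S.hh i a.1)⁻¹ : kˣ) : k)

/-- The operator of a reflection. -/
noncomputable def op [Fintype G] {M : Type*} [AddCommGroup M] [Module k M]
    (ρ : Representation k G M) (i : ι) : M →ₗ[k] M :=
  ∑ a : S.X i, ρ ((a : G) * S.n i)

theorem op_apply [Fintype G] {M : Type*} [AddCommGroup M] [Module k M]
    (ρ : Representation k G M) (i : ι) (v : M) :
    S.op ρ i v = ∑ a : S.X i, ρ ((a : G) * S.n i) v := by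
  rw [op, LinearMap.sum_apply]

end Setting

/-- A weight vector. -/
structure IsWeightVec {k : Type*} [Field k] [Fintype G] {M : Type*}
    [AddCommGroup M] [Module k M] (ρ : Representation k G M) (χ : S.H →* kˣ) (lam : ι → k)
    (v : M) : Prop where
  ne : v ≠ 0
  fix : ∀ u ∈ S.U, ρ u v = v
  torus : ∀ h : S.H, ρ (h : G) v = ((χ h : kˣ) : k) • v
  refl : ∀ i, S.op ρ i v = lam i • v

/-- No proper nonzero invariant subspace. -/
def Irred {k : Type*} [Field k] {M : Type*} [AddCommGroup M] [Module k M]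
    (ρ : Representation k G M) : Prop :=
  (∃ v : M, v ≠ 0) ∧ ∀ W : Submodule k M, (∀ g, ∀ v ∈ W, ρ g v ∈ W) → W = ⊥ ∨ W = ⊤

end Cfsg.Agent.CurtisRichen82
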