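import Cfsg.Agent.CurtisRichen82.Setting
import Cfsg.Agent.BlockAlg8.Projective

/-!
Weight vectors of the simple modules: existence and uniqueness.
-/

set_option autoImplicit false
set_option linter.unusedSectionVars false

namespace Cfsg.Agent.CurtisRichen82

open scoped Classical

universe u

variable {G : Type u} [Group G] [Fintype G] {ι : Type*} {p : ℕ} [Fact p.Prime]
  {S : Setting G ι p} {k : Type*} [Field k] [CharP k p]

theorem mul_apply' {M : Type*} [AddCommGroup M] [Module k M] (ρ : Representation k G M)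
    (a b : G) (v : M) : ρ (a * b) v = ρ a (ρ b v) := by
  rw [map_mul, Module.End.mul_apply]

theorem inv_apply_self {M : Type*} [AddCommGroup M] [Module k M] (ρ : Representation k G M)
    (a : G) (v : M) : ρ a⁻¹ (ρ a v) = v := by
  rw [← mul_apply', inv_mul_cancel, map_one, Module.End.one_apply]

section span

variable {M : Type*} [AddCommGroup M] [Module k M] {ρ : Representation k G M} {χ : S.H →* kˣ}
  {lam : ι → k} {x : M} (hx : IsWeightVec S ρ χ lam x)

/-- The translates under the negative unipotent group. -/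
def spanV (S : Setting G ι p) (ρ : Representation k G M) (x : M) : Submodule k M :=
  Submodule.span k (Set.range fun v : S.V => ρ (v : G) x)

theorem self_mem_spanV : x ∈ spanV S ρ x :=
  Submodule.subset_span ⟨1, by simp⟩

theorem V_mem_spanV {v : G} (hv : v ∈ S.V) {y : M} (hy : y ∈ spanV S ρ x) :
    ρ v y ∈ spanV S ρ x := by
  induction hy using Submodule.span_induction with
  | mem y hy =>
    obtain ⟨w, rfl⟩ := hy
    exact Submodule.subset_span ⟨⟨v * w, mul_mem hv w.2⟩, mul_apply' ρ _ _ _⟩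
  | zero => simp
  | add a b _ _ ha hb => rw [map_add]; exact add_mem ha hb
  | smul c a _ ha => rw [map_smul]; exact Submodule.smul_mem _ c ha

include hx in
theorem n_y_mem {i : ι} {y : G} (hy : y ∈ S.Y i) (hne : y ≠ 1) :
    ρ (S.n i * y) x ∈ spanV S ρ x := by
  obtain ⟨a, ha, h, hh, b, hb, rfl⟩ := S.big i y hy hne
  have e : S.n i * (a * S.n i * h * b) =
      (S.n i * a * (S.n i)⁻¹) * ((S.n i * S.n i * h) * b) := by group
  have hmem : S.n i * S.n i * h ∈ S.H := mul_mem (S.sq_mem i) hh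
  rw [e, mul_apply' ρ _ (S.n i * S.n i * h * b), mul_apply' ρ _ b, hx.fix b (S.X_le i hb),
    hx.torus ⟨_, hmem⟩]
  exact V_mem_spanV (S.Y_le i (S.conj_X i a ha)) (Submodule.smul_mem _ _ self_mem_spanV)

include hx in
theorem n_mem_spanV (i : ι) : ρ (S.n i) x ∈ spanV S ρ x := by
  have e := hx.refl i
  rw [Setting.op_apply, ← Finset.add_sum_erase _ _ (Finset.mem_univ (1 : S.X i))] at e
  rw [OneMemClass.coe_one, one_mul] at e
  rw [eq_sub_of_add_eq e]
  refine sub_mem (Submodule.smul_mem _ _ self_mem_spanV) (sum_mem fun a ha => ?_)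
  have ha1 : (a : G) ≠ 1 := fun h => (Finset.mem_erase.1 ha).1 (Subtype.ext h)
  rw [show (a : G) * S.n i = S.n i * ((S.n i)⁻¹ * a * S.n i) by group]
  refine n_y_mem hx (S.conj_X' i a a.2) fun h => ha1 ?_
  have := congrArg (fun x => S.n i * x * (S.n i)⁻¹) h
  simpa [mul_assoc] using this

include hx in
/-- The translates of a weight vector under the negative unipotent group span an invariant
subspace. -/
theorem invariant_spanV (g : G) {y : M} (hy : y ∈ spanV S ρ x) : ρ g y ∈ spanV S ρ x := by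
  have key : ∀ g ∈ Subgroup.closure ((S.V : Set G) ∪ S.H ∪ Set.range S.n),
      ∀ y ∈ spanV S ρ x, ρ g y ∈ spanV S ρ x := by
    intro g hg
    induction hg using Subgroup.closure_induction with
    | one => intro y hy; simpa using hy
    | mul a b _ _ ha hb => intro y hy; rw [mul_apply']; exact ha _ (hb y hy)
    | inv a _ ha =>
      intro y hy
      obtain ⟨j, hj⟩ := (isOfFinOrder_of_finite a).mem_powers_iff_mem_zpowers.2
        (Subgroup.inv_mem _ (Subgroup.mem_zpowers a))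
      rw [← hj]
      show ρ (a ^ j) y ∈ _
      clear hj
      induction j generalizing y with
      | zero => simpa using hy
      | succ j ih => rw [pow_succ, mul_apply']; exact ih _ (ha y hy)
    | mem g hg =>
      intro y hy
      induction hy using Submodule.span_induction with
      | zero => simp
      | add a b _ _ ha hb => rw [map_add]; exact add_mem ha hb
      | smul c a _ ha => rw [map_smul]; exact Submodule.smul_mem _ c ha
      | mem y hy =>
      obtain ⟨v, rfl⟩ := hy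
      rcases hg with (hg | hg) | ⟨i, rfl⟩
      · exact V_mem_spanV hg (Submodule.subset_span ⟨v, rfl⟩)
      · show ρ g (ρ (v : G) x) ∈ _
        rw [← mul_apply', show g * (v : G) = (g * v * g⁻¹) * g by group, mul_apply',
          hx.torus ⟨g, hg⟩]
        exact V_mem_spanV (S.H_conj_V g hg v v.2) (Submodule.smul_mem _ _ self_mem_spanV)
      · obtain ⟨w, hw, y, hy, e⟩ := S.factV i v v.2
        show ρ (S.n i) (ρ (v : G) x) ∈ _
        rw [← mul_apply', e, show S.n i * (w * y) =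
          (S.n i * w * (S.n i)⁻¹) * (S.n i * y) by group, mul_apply']
        refine V_mem_spanV hw ?_
        by_cases h1 : y = 1
        · rw [h1, mul_one]; exact n_mem_spanV hx i
        · exact n_y_mem hx hy h1
  exact key g (by rw [S.gen]; trivial) y hy

end span

section uniqueness

variable {M : Type*} [AddCommGroup M] [Module k M] [FiniteDimensional k M]
  {ρ : Representation k G M}

theorem irred_dual (hρ : Irred ρ) : Irred ρ.dual := by
  obtain ⟨⟨v, hv⟩, hirr⟩ := hρ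
  refine ⟨?_, fun W hW => ?_⟩
  · by_contra h
    push Not at h
    exact hv ((Module.forall_dual_apply_eq_zero_iff k v).1 fun f => by rw [h f]; rfl)
  · have hinv : ∀ g, ∀ w ∈ W.dualCoannihilator, ρ g w ∈ W.dualCoannihilator := by
      intro g w hw
      rw [Submodule.mem_dualCoannihilator] at hw ⊢
      intro f hf
      have := hw _ (hW g⁻¹ f hf)
      simpa [Module.Dual.transpose_apply] using this
    have hW' : W = W.dualCoannihilator.dualAnnihilator :=
      (Subspace.dualCoannihilator_dualAnnihilator_eq (W := W)).symm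
    rcases hirr _ hinv with h | h
    · right; rw [hW', h, Submodule.dualAnnihilator_bot]
    · left; rw [hW', h, Submodule.dualAnnihilator_top]

theorem spanV_eq_top (hρ : Irred ρ) {χ : S.H →* kˣ} {lam : ι → k} {x : M}
    (hx : IsWeightVec S ρ χ lam x) : spanV S ρ x = ⊤ :=
  (hρ.2 _ fun g _ hy => invariant_spanV hx g hy).resolve_left fun h =>
    hx.ne ((Submodule.mem_bot k).1 (h ▸ self_mem_spanV))

/-- A functional fixed by `V` that does not vanish on the weight vector. -/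
theorem exists_functional (hρ : Irred ρ) {χ : S.H →* kˣ} {lam : ι → k} {x : M}
    (hx : IsWeightVec S ρ χ lam x)
    (hd : ∃ φ : Module.Dual k M, φ ≠ 0 ∧ ∀ u ∈ S.U, ρ.dual u φ = φ) :
    ∃ L : M →ₗ[k] k, (∀ v ∈ S.V, ∀ y, L (ρ v y) = L y) ∧ L x = 1 := by
  obtain ⟨φ, hφ0, hφ⟩ := hd
  set L0 : M →ₗ[k] k := φ ∘ₗ ρ S.z⁻¹ with hL0
  have hfix : ∀ v ∈ S.V, ∀ y, L0 (ρ v y) = L0 y := by
    intro v hv y
    have h1 := LinearMap.congr_fun (hφ _ (inv_mem (S.zV v hv))) (ρ S.z⁻¹ y)
    simp only [Representation.dual_apply, Module.Dual.transpose_apply, inv_inv,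
      LinearMap.comp_apply] at h1
    rw [hL0, LinearMap.comp_apply, LinearMap.comp_apply, ← h1, ← mul_apply', ← mul_apply']
    congr 2
    group
  have hx0 : L0 x ≠ 0 := by
    intro h0
    refine hφ0 (LinearMap.ext fun y => ?_)
    have hker : spanV S ρ x ≤ LinearMap.ker L0 := by
      refine Submodule.span_le.2 ?_
      rintro _ ⟨v, rfl⟩
      rw [SetLike.mem_coe, LinearMap.mem_ker, hfix v v.2, h0]
    rw [spanV_eq_top hρ hx] at hker
    have := hker (x := ρ S.z y) trivial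
    rwa [LinearMap.mem_ker, hL0, LinearMap.comp_apply, inv_apply_self] at this
  exact ⟨(L0 x)⁻¹ • L0, fun v hv y => by simp [hfix v hv y], by simp [hx0]⟩

/-- The fixed points of `U` in a simple module form at most a line. -/
theorem fixed_unique (hρ : Irred ρ) {ψ : S.H →* kˣ} {mu : ι → k} {φ : Module.Dual k M}
    (hφ : IsWeightVec S ρ.dual ψ mu φ) {a b : M} (ha : a ≠ 0) (hua : ∀ u ∈ S.U, ρ u a = a)
    (hub : ∀ u ∈ S.U, ρ u b = b) : ∃ c : k, b = c • a := by
  have htop := spanV_eq_top (irred_dual hρ) hφ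
  have hfix : ∀ y : M, (∀ u ∈ S.U, ρ u y = y) → ∀ v ∈ S.V, ρ v (ρ S.z y) = ρ S.z y := by
    intro y hy v hv
    conv_rhs => rw [← hy _ (S.zV v hv)]
    rw [← mul_apply', ← mul_apply']
    congr 2
    group
  have hinj : ∀ y : M, (∀ u ∈ S.U, ρ u y = y) → φ (ρ S.z y) = 0 → y = 0 := by
    intro y hy h0
    have : ρ S.z y = 0 := by
      refine (Module.forall_dual_apply_eq_zero_iff k _).1 fun f => ?_
      have hf : f ∈ spanV S ρ.dual φ := by rw [htop]; trivial
      induction hf using Submodule.span_induction with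
      | zero => rfl
      | add f g _ _ hf hg => simp [hf, hg]
      | smul c f _ hf => simp [hf]
      | mem f hf =>
        obtain ⟨v, rfl⟩ := hf
        show ρ.dual (v : G) φ (ρ S.z y) = 0
        simp only [Representation.dual_apply, Module.Dual.transpose_apply, LinearMap.comp_apply]
        rw [hfix y hy _ (inv_mem v.2), h0]
    simpa using (inv_apply_self ρ S.z y).symm.trans (by rw [this, map_zero])
  have ha0 : φ (ρ S.z a) ≠ 0 := fun h => ha (hinj a hua h)
  refine ⟨φ (ρ S.z b) / φ (ρ S.z a), sub_eq_zero.1 (hinj _ ?_ ?_)⟩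
  · intro u hu
    rw [map_sub, map_smul, hua u hu, hub u hu]
  · simp [map_sub, map_smul, div_mul_cancel₀ _ ha0]

/-- Simple modules with the same weight are isomorphic. -/
theorem iso_of_weight {M' : Type*} [AddCommGroup M'] [Module k M'] [FiniteDimensional k M']
    {ρ' : Representation k G M'} (hρ : Irred ρ) (hρ' : Irred ρ') {χ : S.H →* kˣ} {lam : ι → k}
    {x : M} {x' : M'} (hx : IsWeightVec S ρ χ lam x) (hx' : IsWeightVec S ρ' χ lam x')
    (hd : ∃ φ : Module.Dual k M, φ ≠ 0 ∧ ∀ u ∈ S.U, ρ.dual u φ = φ)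
    (hd' : ∃ φ : Module.Dual k M', φ ≠ 0 ∧ ∀ u ∈ S.U, ρ'.dual u φ = φ) :
    ∃ e : M ≃ₗ[k] M', ∀ g y, e (ρ g y) = ρ' g (e y) := by
  obtain ⟨L, hL, hLx⟩ := exists_functional hρ hx hd
  obtain ⟨L', hL', hLx'⟩ := exists_functional hρ' hx' hd'
  set σ : Representation k G (M × M') := ρ.prod ρ' with hσ
  have hσa : ∀ g y, σ g y = (ρ g y.1, ρ' g y.2) := fun g y => rfl
  have hxx : IsWeightVec S σ χ lam (x, x') := by
    refine ⟨fun h => hx.ne (congrArg Prod.fst h), fun u hu => ?_, fun h => ?_, fun i => ?_⟩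
    · rw [hσa, hx.fix u hu, hx'.fix u hu]
    · rw [hσa, hx.torus, hx'.torus]; rfl
    · rw [Setting.op_apply, Prod.ext_iff, Prod.smul_fst, Prod.smul_snd, Prod.fst_sum, Prod.snd_sum,
        ← hx.refl, ← hx'.refl, Setting.op_apply, Setting.op_apply]
      exact ⟨rfl, rfl⟩
  set W := spanV S σ (x, x') with hW
  have hWinv : ∀ g, ∀ y ∈ W, σ g y ∈ W := fun g y hy => invariant_spanV hxx g hy
  have hLW : ∀ y ∈ W, L y.1 = L' y.2 := by
    intro y hy
    induction hy using Submodule.span_induction with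
    | zero => simp
    | add a b _ _ ha hb => simp [ha, hb]
    | smul c a _ ha => simp [ha]
    | mem y hy =>
      obtain ⟨v, rfl⟩ := hy
      show L (σ (v : G) (x, x')).1 = L' (σ (v : G) (x, x')).2
      rw [hσa, hL v v.2, hL' v v.2, hLx, hLx']
  have hfst : ∀ y : M, ∃! y' : M', (y, y') ∈ W := by
    intro y
    have hex : ∀ y : M, ∃ y' : M', (y, y') ∈ W := by
      intro y
      have : y ∈ W.map (LinearMap.fst k M M') := by
        rw [(hρ.2 (W.map (LinearMap.fst k M M')) (by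
          rintro g _ ⟨w, hw, rfl⟩; exact ⟨σ g w, hWinv g w hw, rfl⟩)).resolve_left fun h =>
            hx.ne ((Submodule.mem_bot k).1 (h ▸ ⟨(x, x'), self_mem_spanV, rfl⟩))]
        trivial
      obtain ⟨⟨a, b⟩, hab, rfl⟩ := this
      exact ⟨b, hab⟩
    obtain ⟨y', hy'⟩ := hex y
    refine ⟨y', hy', fun z hz => ?_⟩
    have hK : W.comap (LinearMap.inr k M M') = ⊥ := by
      refine (hρ'.2 _ fun g w hw => ?_).resolve_right fun h => ?_
      · show ((0 : M), ρ' g w) ∈ W
        have := hWinv g _ hw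
        simpa [hσa] using this
      · have := hLW _ (show ((0 : M), x') ∈ W from (h ▸ trivial : x' ∈ W.comap (LinearMap.inr k M M')))
        simp [hLx'] at this
    refine sub_eq_zero.1 ((Submodule.mem_bot k).1 (hK ▸ ?_))
    show ((0 : M), z - y') ∈ W
    simpa using sub_mem hz hy'
  choose f hf huniq using hfst
  let e₀ : M →ₗ[k] M' :=
    { toFun := f
      map_add' := fun a b => (huniq _ _ (by simpa using add_mem (hf a) (hf b))).symm
      map_smul' := fun c a => (huniq _ _ (by simpa using W.smul_mem c (hf a))).symm }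
  have hequi : ∀ g y, e₀ (ρ g y) = ρ' g (e₀ y) := fun g y =>
    (huniq _ _ (show (ρ g y, ρ' g (f y)) ∈ W by simpa [hσa] using hWinv g _ (hf y))).symm
  have hxf : e₀ x = x' := (huniq _ _ self_mem_spanV).symm
  have hinj : Function.Injective e₀ := by
    rw [← LinearMap.ker_eq_bot]
    refine (hρ.2 _ fun g w hw => ?_).resolve_right fun h => ?_
    · rw [LinearMap.mem_ker] at hw ⊢
      rw [hequi, hw, map_zero]
    · exact hx'.ne (hxf ▸ LinearMap.mem_ker.1 (h ▸ trivial))
  have hsur : Function.Surjective e₀ := by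
    rw [← LinearMap.range_eq_top]
    refine (hρ'.2 _ ?_).resolve_left fun h => hx'.ne ((Submodule.mem_bot k).1 (h ▸ ⟨x, hxf⟩))
    rintro g _ ⟨y, rfl⟩
    exact ⟨ρ g y, hequi g y⟩
  exact ⟨LinearEquiv.ofBijective e₀ ⟨hinj, hsur⟩, hequi⟩

end uniqueness

section existence

variable {M : Type*} [AddCommGroup M] [Module k M] [FiniteDimensional k M]
  {ρ : Representation k G M}

/-- Commuting operators on a stable nonzero subspace have a common eigenvector. -/
theorem exists_common_eigen [IsAlgClosed k] {J : Type*} (T : J → M →ₗ[k] M) (W : Submodule k M)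
    (hW : W ≠ ⊥) (hT : ∀ j, ∀ w ∈ W, T j w ∈ W) (hc : ∀ i j, ∀ w ∈ W, T i (T j w) = T j (T i w)) :
    ∃ w ∈ W, w ≠ 0 ∧ ∀ j, ∃ c : k, T j w = c • w := by
  have hex : ∃ d, ∃ E : Submodule k M, E ≤ W ∧ E ≠ ⊥ ∧ (∀ j, ∀ w ∈ E, T j w ∈ E) ∧
      Module.finrank k E = d := ⟨_, W, le_rfl, hW, hT, rfl⟩
  obtain ⟨E, hEW, hE, hTE, hdE⟩ := Nat.find_spec hex
  have hsc : ∀ j, ∃ c : k, ∀ w ∈ E, T j w = c • w := by
    intro j
    have : Nontrivial E := Submodule.nontrivial_iff_ne_bot.2 hE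
    obtain ⟨c, hc'⟩ := Module.End.exists_eigenvalue ((T j).restrict (hTE j))
    obtain ⟨⟨w, hwE⟩, hw⟩ := hc'.exists_hasEigenvector
    have hwe : T j w = c • w := congrArg Subtype.val (Module.End.mem_eigenspace_iff.1 hw.1)
    let E' : Submodule k M := E ⊓ LinearMap.ker (T j - c • LinearMap.id)
    refine ⟨c, fun v hv => ?_⟩
    have hE' : E' = E := by
      by_contra hne
      have hlt : Module.finrank k E' < Module.finrank k E :=
        Submodule.finrank_lt_finrank_of_lt (lt_of_le_of_ne inf_le_left hne)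
      refine absurd (Nat.find_min' hex ⟨E', inf_le_left.trans hEW, ?_, ?_, rfl⟩) (by omega)
      · intro h
        refine hw.2 (Subtype.ext ((Submodule.mem_bot k).1 (h ▸ ⟨hwE, ?_⟩)))
        simp [hwe]
      · rintro i u ⟨hu1, hu2⟩
        refine ⟨hTE i u hu1, ?_⟩
        simp only [SetLike.mem_coe, LinearMap.mem_ker, LinearMap.sub_apply, LinearMap.smul_apply,
          LinearMap.id_apply, sub_eq_zero] at hu2 ⊢
        rw [hc j i u (hEW hu1), hu2, map_smul]
    have := (hE'.symm ▸ hv : v ∈ E').2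
    simpa [sub_eq_zero] using this
  obtain ⟨w, hw, hw0⟩ := E.exists_mem_ne_zero_of_ne_bot hE
  exact ⟨w, hEW hw, hw0, fun j => (hsc j).imp fun c h => h w hw⟩

theorem exists_fixed_U (S : Setting G ι p) (ρ : Representation k G M) (hne : ∃ v : M, v ≠ 0) :
    ∃ v : M, v ≠ 0 ∧ ∀ u ∈ S.U, ρ u v = v := by
  let σ : S.U →* (M ≃ₗ[k] M) :=
    (LinearMap.GeneralLinearGroup.generalLinearEquiv k M).toMonoidHom.comp
      ((ρ.comp S.U.subtype).toHomUnits)
  obtain ⟨v, -, hv0, hv⟩ := BlockAlg8.exists_fixed_mem S.pgroup σ ⊤ (fun _ _ _ => trivial) (by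
    obtain ⟨v, hv⟩ := hne
    exact fun h => hv ((Submodule.mem_bot k).1 (h ▸ trivial)))
  exact ⟨v, hv0, fun u hu => hv ⟨u, hu⟩⟩

theorem exists_fixed_dual (S : Setting G ι p) (hρ : Irred ρ) :
    ∃ φ : Module.Dual k M, φ ≠ 0 ∧ ∀ u ∈ S.U, ρ.dual u φ = φ :=
  exists_fixed_U S ρ.dual (irred_dual hρ).1

/-- Every simple module has a weight vector. -/
theorem exists_weight [IsAlgClosed k] (S : Setting G ι p) (hρ : Irred ρ) :
    ∃ (χ : S.H →* kˣ) (lam : ι → k), (∀ i, lam i = 0 ∨ lam i = S.mu i χ) ∧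
      ∃ x, IsWeightVec S ρ χ lam x := by
  -- a functional fixed by `U` that is an eigenvector of the torus
  obtain ⟨φ₀, hφ₀, hφ₀u⟩ := exists_fixed_dual S hρ
  let Wd : Submodule k (Module.Dual k M) :=
    { carrier := {f | ∀ u ∈ S.U, ρ.dual u f = f}
      add_mem' := fun ha hb u hu => by rw [map_add, ha u hu, hb u hu]
      zero_mem' := fun u hu => map_zero _
      smul_mem' := fun c a ha u hu => by rw [map_smul, ha u hu] }
  obtain ⟨φ, hφU, hφ0, hφH⟩ := exists_common_eigen (fun h : S.H => ρ.dual (h : G)) Wd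
    (fun h => hφ₀ ((Submodule.mem_bot k).1 (h ▸ hφ₀u)))
    (fun h w hw u hu => by
      show ρ.dual u (ρ.dual (h : G) w) = ρ.dual (h : G) w
      rw [← mul_apply', show u * (h : G) = (h : G) * ((h : G)⁻¹ * u * h) by group, mul_apply',
        hw _ (by simpa using S.H_conj_U _ (inv_mem h.2) u hu)])
    (fun a b w _ => by rw [← mul_apply', ← mul_apply', S.H_comm _ a.2 _ b.2])
  choose ψ hψ using hφH
  -- coordinates
  let Φ : M →ₗ[k] (G → k) := LinearMap.pi fun g => φ ∘ₗ ρ g⁻¹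
  have hΦ : ∀ v g, Φ v g = φ (ρ g⁻¹ v) := fun v g => rfl
  have hleft : ∀ g x v, Φ (ρ g v) x = Φ v (g⁻¹ * x) := fun g x v => by
    rw [hΦ, hΦ, mul_inv_rev, inv_inv, mul_apply']
  have hright : ∀ v x, ∀ u ∈ S.U, Φ v (x * u) = Φ v x := fun v x u hu => by
    rw [hΦ, hΦ, mul_inv_rev, mul_apply']
    exact LinearMap.congr_fun (hφU u hu) _
  have hrightH : ∀ v x, ∀ h : S.H, Φ v (x * h) = ψ h * Φ v x := fun v x h => by
    rw [hΦ, hΦ, mul_inv_rev, mul_apply']
    exact LinearMap.congr_fun (hψ h) _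
  let W : Submodule k M :=
    { carrier := {v | ∀ u ∈ S.U, ρ u v = v}
      add_mem' := fun ha hb u hu => by rw [map_add, ha u hu, hb u hu]
      zero_mem' := fun u hu => map_zero _
      smul_mem' := fun c a ha u hu => by rw [map_smul, ha u hu] }
  have hfull : ∀ v, v ≠ 0 → ∃ x, Φ v x ≠ 0 := by
    intro v hv
    by_contra h
    push Not at h
    let K : Submodule k M := LinearMap.ker Φ
    have hK : K = ⊤ := (hρ.2 K fun g w hw => by
      rw [LinearMap.mem_ker] at hw ⊢
      funext x; rw [hleft, hw]; rfl).resolve_left fun hb =>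
        hv ((Submodule.mem_bot k).1 (hb ▸ (LinearMap.mem_ker.2 (funext h : Φ v = 0) : v ∈ K)))
    refine hφ0 (LinearMap.ext fun w => ?_)
    have := congrFun (LinearMap.mem_ker.1 (hK ▸ trivial : w ∈ K) : Φ w = 0) 1
    simpa [hΦ] using this
  have hleftU : ∀ v ∈ W, ∀ u ∈ S.U, ∀ x, Φ v (u * x) = Φ v x := fun v hv u hu x => by
    rw [← inv_inv u, ← hleft, hv _ (inv_mem hu)]
  have hsupp : ∀ v ∈ W, v ≠ 0 → ∃ m ∈ S.N, Φ v m ≠ 0 := by
    intro v hv hv0
    obtain ⟨x, hx⟩ := hfull v hv0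
    obtain ⟨u, hu, m, hm, u', hu', rfl⟩ := S.cover x
    rw [hright _ _ u' hu', hleftU v hv u hu] at hx
    exact ⟨m, hm, hx⟩
  have hTW : ∀ i, ∀ v ∈ W, S.op ρ i v ∈ W := by
    intro i v hv u hu
    have hs : ∀ a : S.X i, ∃ b : S.X i, ∃ w ∈ S.U' i, u * (a : G) = (b : G) * w := fun a => by
      obtain ⟨b, hb, w, hw, e⟩ := S.factU i _ (mul_mem hu (S.X_le i a.2))
      exact ⟨⟨b, hb⟩, w, hw, e⟩
    choose π w hw hπ using hs
    have hbij : Function.Bijective π := by
      refine Finite.injective_iff_bijective.1 fun a b e => ?_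
      have e1 : (a : G)⁻¹ * b = (w a)⁻¹ * w b := by
        calc (a : G)⁻¹ * b = (u * a)⁻¹ * (u * b) := by group
          _ = _ := by rw [hπ a, hπ b, e]; group
      have := S.disjU i ((a : G)⁻¹ * b) (mul_mem (inv_mem a.2) b.2)
        (e1 ▸ mul_mem (inv_mem (hw a)) (hw b))
      exact Subtype.ext (inv_mul_eq_one.1 this)
    rw [Setting.op_apply, map_sum]
    rw [← hbij.sum_comp fun a : S.X i => ρ ((a : G) * S.n i) v]
    refine Finset.sum_congr rfl fun a _ => ?_
    rw [← mul_apply', show u * ((a : G) * S.n i) =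
      ((π a : G) * S.n i) * ((S.n i)⁻¹ * w a * S.n i) by rw [← mul_assoc, hπ a]; group,
      mul_apply', hv _ (S.conj_U' i _ (hw a))]
  have hHW : ∀ h : S.H, ∀ v ∈ W, ρ (h : G) v ∈ W := fun h v hv u hu => by
    rw [← mul_apply', show u * (h : G) = (h : G) * ((h : G)⁻¹ * u * h) by group, mul_apply',
      hv _ (by simpa using S.H_conj_U _ (inv_mem h.2) u hu)]
  -- the torus on a coordinate
  have hdiag : ∀ m, ∀ hm : m ∈ S.N, ∀ h : S.H, ∀ v, Φ v ((h : G) * m) =
      ψ ⟨m⁻¹ * h * m, by simpa using S.conj_H _ (inv_mem hm) h h.2⟩ * Φ v m := fun m hm h v => by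
    rw [← hrightH]; congr 1; group
  have hop : ∀ v ∈ W, ∀ i, ∀ m ∈ S.N,
      (S.Up i m → Φ (S.op ρ i v) m = 0) ∧
      (¬ S.Up i m → Φ (S.op ρ i v) m = Φ v ((S.n i)⁻¹ * m) +
        ∑ a : {a : S.X i // (a : G) ≠ 1}, Φ v ((S.hh i a.1 : G) * m)) := by
    intro v hv i m hm
    have e : Φ (S.op ρ i v) m = ∑ a : S.X i, Φ v ((S.n i)⁻¹ * ((a : G) * m)) := by
      rw [Setting.op_apply, map_sum, Finset.sum_apply,
        ← Equiv.sum_comp (Equiv.inv (S.X i)) (fun a : S.X i => Φ v ((S.n i)⁻¹ * ((a : G) * m)))]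
      refine Finset.sum_congr rfl fun a _ => ?_
      rw [hleft, mul_inv_rev, mul_assoc]
      rfl
    refine ⟨fun hup => ?_, fun hdn => ?_⟩
    · rw [e, Finset.sum_congr rfl (g := fun _ => Φ v ((S.n i)⁻¹ * m)) fun a _ => by
        rw [show (S.n i)⁻¹ * ((a : G) * m) = (S.n i)⁻¹ * m * (m⁻¹ * a * m) by group,
          hright _ _ _ (hup a a.2)]]
      obtain ⟨j, hj⟩ := S.dvd_card i
      rw [Finset.sum_const, Finset.card_univ, ← Nat.card_eq_fintype_card, hj, mul_smul,
        ← Nat.cast_smul_eq_nsmul k, CharP.cast_eq_zero, zero_smul]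
    · rw [e, ← Finset.add_sum_erase _ _ (Finset.mem_univ (1 : S.X i)), OneMemClass.coe_one, one_mul]
      congr 1
      rw [Finset.sum_subtype (p := fun a : S.X i => (a : G) ≠ 1) _ (fun a => by rw [Finset.mem_erase, and_iff_left (Finset.mem_univ _), ne_eq, ne_eq, OneMemClass.coe_eq_one])]
      refine Finset.sum_congr rfl fun ⟨a, ha⟩ _ => ?_
      obtain ⟨b, hb, h₀, hh₀, c, hc, e1, e2⟩ := S.hh_spec a ha
      rw [← e2, show (S.n i)⁻¹ * ((a : G) * m) =
          ((S.n i)⁻¹ * a * S.n i) * ((S.n i)⁻¹ * m) by group, e1,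
        show b * S.n i * h₀ * c * ((S.n i)⁻¹ * m) = b * (S.n i * h₀ * (S.n i)⁻¹ * m) *
          (m⁻¹ * (S.n i * c * (S.n i)⁻¹) * m) by group,
        hright _ _ _ (S.dich i m hm hdn _ (S.conj_X i c hc)), hleftU v hv b (S.X_le i hb)]
  -- the lowest level
  have hexW : ∃ v ∈ W, v ≠ 0 := by
    obtain ⟨v, hv0, hv⟩ := exists_fixed_U S ρ hρ.1
    exact ⟨v, hv, hv0⟩
  let P : ℕ → Prop := fun L => ∃ v ∈ W, v ≠ 0 ∧ ∀ m ∈ S.N, S.rank m < L → Φ v m = 0
  let R := (Finset.univ.sup fun m : G => S.rank m) + 1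
  have hP0 : P 0 := by
    obtain ⟨v, hv, hv0⟩ := hexW
    exact ⟨v, hv, hv0, fun m _ h => absurd h (Nat.not_lt_zero _)⟩
  have hPR : ¬ P R := fun ⟨v, hv, hv0, hv'⟩ => by
    obtain ⟨m, hm, hne⟩ := hsupp v hv hv0
    exact hne (hv' m hm (Nat.lt_succ_of_le (Finset.le_sup (f := fun m => S.rank m) (Finset.mem_univ m))))
  set L := Nat.findGreatest P R with hL
  have hPL : P L := Nat.findGreatest_spec (Nat.zero_le R) hP0
  have hinjL : ∀ v ∈ W, (∀ m ∈ S.N, S.rank m ≤ L → Φ v m = 0) → v = 0 := by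
    intro v hv h
    by_contra hv0
    have hlt : L < R := lt_of_le_of_ne (Nat.findGreatest_le R) fun e => hPR (e ▸ hPL)
    have := Nat.le_findGreatest hlt (P := P) ⟨v, hv, hv0, fun m hm hm' => h m hm (by omega)⟩
    omega
  have hex2 : ∃ s, ∃ v ∈ W, v ≠ 0 ∧ (∀ m ∈ S.N, S.rank m < L → Φ v m = 0) ∧
      (Finset.univ.filter fun m => m ∈ S.N ∧ S.rank m = L ∧ Φ v m ≠ 0).card = s := by
    obtain ⟨v, hv, hv0, hv'⟩ := hPL
    exact ⟨_, v, hv, hv0, hv', rfl⟩
  obtain ⟨v, hv, hv0, hvlow, hvs⟩ := Nat.find_spec hex2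
  obtain ⟨m0, hm0, hm0L, hm0v⟩ : ∃ m, m ∈ S.N ∧ S.rank m = L ∧ Φ v m ≠ 0 := by
    by_contra h
    push Not at h
    refine hv0 (hinjL v hv fun m hm hle => ?_)
    rcases hle.lt_or_eq with h' | h'
    · exact hvlow m hm h'
    · exact h m hm h'
  -- an operator that is diagonal on the lowest level has `v` as an eigenvector
  have heig : ∀ T : M →ₗ[k] M, (∀ w ∈ W, T w ∈ W) → ∀ c : G → k,
      (∀ w ∈ W, (∀ m ∈ S.N, S.rank m < L → Φ w m = 0) →
        ∀ m ∈ S.N, S.rank m ≤ L → Φ (T w) m = c m * Φ w m) →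
      T v = c m0 • v := by
    intro T hT c hc
    refine sub_eq_zero.1 ?_
    by_contra hne
    set w := T v - c m0 • v with hw
    have hwW : w ∈ W := sub_mem (hT v hv) (W.smul_mem _ hv)
    have hval : ∀ m ∈ S.N, S.rank m ≤ L → Φ w m = (c m - c m0) * Φ v m := fun m hm hle => by
      rw [hw, map_sub, map_smul, Pi.sub_apply, Pi.smul_apply, hc v hv hvlow m hm hle, smul_eq_mul]
      ring
    have hlow : ∀ m ∈ S.N, S.rank m < L → Φ w m = 0 := fun m hm hlt => by
      rw [hval m hm hlt.le, hvlow m hm hlt, mul_zero]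
    have hsub : (Finset.univ.filter fun m => m ∈ S.N ∧ S.rank m = L ∧ Φ w m ≠ 0) ⊆
        (Finset.univ.filter fun m => m ∈ S.N ∧ S.rank m = L ∧ Φ v m ≠ 0).erase m0 := by
      intro m hm
      simp only [Finset.mem_filter, Finset.mem_univ, true_and, Finset.mem_erase] at hm ⊢
      obtain ⟨h1, h2, h3⟩ := hm
      rw [hval m h1 h2.le] at h3
      exact ⟨fun e => h3 (by rw [e, sub_self, zero_mul]), h1, h2, fun e => h3 (by rw [e, mul_zero])⟩
    have h1 := Finset.card_le_card hsub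
    have hmem : m0 ∈ Finset.univ.filter fun m => m ∈ S.N ∧ S.rank m = L ∧ Φ v m ≠ 0 := by
      simp [hm0, hm0L, hm0v]
    have h2 := Nat.find_min' hex2 ⟨w, hwW, hne, hlow, rfl⟩
    have h3 := Finset.card_erase_lt_of_mem hmem
    omega
  have hHe : ∀ h : S.H, ρ (h : G) v = ψ ⟨m0⁻¹ * ((h⁻¹ : S.H) : G) * m0,
      by simpa using S.conj_H _ (inv_mem hm0) _ (h⁻¹).2⟩ • v := by
    intro h
    have := heig (ρ (h : G)) (hHW h) (fun m => if hm : m ∈ S.N then ψ ⟨m⁻¹ * ((h⁻¹ : S.H) : G) * m,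
        by simpa using S.conj_H _ (inv_mem hm) _ (h⁻¹).2⟩ else 0) fun w _ _ m hm _ => by
      rw [dif_pos hm, hleft, ← hdiag m hm h⁻¹ w]; rfl
    rwa [dif_pos hm0] at this
  choose χ' hχ' using fun h : S.H => (⟨_, hHe h⟩ : ∃ c : k, ρ (h : G) v = c • v)
  have hχne : ∀ h, χ' h ≠ 0 := fun h e => hv0 (by
    rw [← inv_apply_self ρ (h : G) v, hχ' h, e, zero_smul, map_zero])
  have huniqc : ∀ {c d : k}, c • v = d • v → c = d := fun e => smul_left_injective k hv0 e
  let χ : S.H →* kˣ :=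
    { toFun := fun h => Units.mk0 (χ' h) (hχne h)
      map_one' := Units.ext (huniqc (by rw [Units.val_mk0, ← hχ']; simp))
      map_mul' := fun a b => Units.ext (huniqc (by
        rw [Units.val_mk0, ← hχ', Subgroup.coe_mul, mul_apply', hχ' b, map_smul, hχ' a, smul_smul,
          Units.val_mul, Units.val_mk0, Units.val_mk0, mul_comm])) }
  have hΦH : ∀ h : S.H, Φ v ((h : G) * m0) = ((χ h⁻¹ : kˣ) : k) * Φ v m0 := fun h => by
    have e : ρ ((h⁻¹ : S.H) : G) v = ((χ h⁻¹ : kˣ) : k) • v := hχ' h⁻¹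
    rw [← inv_inv (h : G), ← hleft, show (h : G)⁻¹ = ((h⁻¹ : S.H) : G) from rfl, e, map_smul]
    rfl
  refine ⟨χ, fun i => if S.Up i m0 then 0 else S.mu i χ,
    fun i => by beta_reduce; split_ifs <;> simp, v, hv0, hv, hχ', fun i => ?_⟩
  have hTe := heig (S.op ρ i) (hTW i) (fun m => if S.Up i m then 0 else
      ∑ a : {a : S.X i // (a : G) ≠ 1}, if hm : m ∈ S.N then
        ψ ⟨m⁻¹ * (S.hh i a.1 : G) * m, by simpa using S.conj_H _ (inv_mem hm) _ (S.hh i a.1).2⟩
      else 0) fun w hw hlow m hm hle => by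
    obtain ⟨h1, h2⟩ := hop w hw i m hm
    beta_reduce
    split_ifs with hup
    · rw [h1 hup, zero_mul]
    · rw [h2 hup, hlow _ (mul_mem (inv_mem (S.n_mem i)) hm)
        (lt_of_lt_of_le (S.rank_lt i m hm hup) hle), zero_add, Finset.sum_mul]
      exact Finset.sum_congr rfl fun a _ => hdiag m hm (S.hh i a.1) w
  rw [hTe]
  congr 1
  split_ifs with hup
  · rfl
  · refine Finset.sum_congr rfl fun a _ => ?_
    rw [← mul_left_inj' hm0v, ← hdiag m0 hm0 (S.hh i a.1) v, hΦH]

end existence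

end Cfsg.Agent.CurtisRichen82
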